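import Cfsg.Agent.Lib.Recog.HsTwoLocal.Certs.GMain.Tree0
import Cfsg.Agent.Lib.Recog.HsTwoLocal.Certs.GMain.Tree1
import Cfsg.Agent.Lib.Recog.HsTwoLocal.Certs.GMain.Tree2
import Cfsg.Agent.Lib.Recog.HsTwoLocal.Certs.GMain.Tree3
import Cfsg.Agent.Lib.Recog.HsTwoLocal.Certs.GMain.Tree4

set_option autoImplicit false
set_option maxRecDepth 20000

/-! Generated certificate: the cosets of the involution centraliser (tools/cosetbound/gen_pairs.py; owner: helper21). -/

namespace CfsgLib.Recog.HsTwoLocal.Certs.GMain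
open CfsgLib.Recog.SporBound (Q)

noncomputable def factTree : Q (ℕ) := (.node (.node (.node ft5 ft10 ft15 ft20) (.node ft26 ft31 ft36 ft41) (.node ft47 ft52 ft57 ft62) (.node ft68 ft73 ft78 ft83)) (.node (.node ft89 ft94 ft99 ft104) (.node ft110 ft115 ft120 ft125) (.node ft131 ft136 ft141 ft146) (.node ft152 ft157 ft162 ft167)) (.node (.node ft173 ft178 ft183 ft188) (.node ft194 ft199 ft204 ft209) (.node ft215 ft220 ft225 ft230) (.node ft236 ft241 ft246 ft251)) (.node (.node ft257 ft262 ft267 ft272) (.node ft278 ft283 ft288 ft293) (.node ft299 ft304 ft309 ft314) (.node ft320 ft325 ft330 ft335)))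
noncomputable def nodeTree : Q (ℕ) := (.node ct12 ct25 ct37 ct49)
noncomputable def stepTree : Q (List ℕ) := (.node (.node (.node st7 st15 st22 st29) (.node st37 st45 st52 st59) (.node st67 st74 st81 st88) (.node st96 st103 st110 st117)) (.node (.node st125 st133 st140 st147) (.node st155 st162 st169 st176) (.node st184 st191 st198 st205) (.node st213 st220 st227 st234)) (.node (.node st242 st250 st257 st264) (.node st272 st279 st286 st293) (.node st301 st308 st315 st322) (.node st330 st337 st344 st351)) (.node (.node st359 st367 st374 st381) (.node st389 st396 st403 st410) (.node st418 st425 st432 st439) (.node st447 st454 st461 st468)))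
noncomputable def finalTree : Q (List ℕ) := (.node (.node (.node et8 et16 et24 et32) (.node et40 et48 et56 et64) (.node et72 et80 et88 et96) (.node et104 et112 et120 et128)) (.node (.node et137 et145 et153 et161) (.node et169 et177 et185 et193) (.node et201 et209 et217 et225) (.node et233 et241 et249 et257)) (.node (.node et266 et274 et282 et290) (.node et298 et306 et314 et322) (.node et330 et338 et346 et354) (.node et362 et370 et378 et386)) (.node (.node et395 et403 et411 et419) (.node et427 et435 et443 et451) (.node et459 et467 et475 et483) (.node et491 et499 et507 et515)))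

/-- The certificate. -/
noncomputable def cert : CfsgLib.Sporadic.PairEnum.Cert where
  n := 5775
  nd := 8846
  nf := 34763
  nl := 10
  kl := [0, 2, 4, 6, 8]
  facts := factTree
  cn := nodeTree
  steps := stepTree
  finals := finalTree
  rels := [[0, 0, 0, 0],
    [3, 1, 2, 1, 3, 0, 2, 0],
    [3, 3, 1, 2, 2, 1, 3, 3, 0, 2, 2, 0],
    [2, 2, 2, 2, 2, 2, 2],
    [4, 4, 4],
    [3, 3, 5, 2, 4],
    [1, 5, 0, 4],
    [1, 3, 1, 1, 3, 1, 3, 0, 2, 2, 2],
    [0, 7, 0, 6],
    [3, 3, 0, 2, 2, 7, 3, 0, 2, 6],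
    [4, 7, 4, 6],
    [6, 6],
    [2, 6, 2, 6, 2, 6, 2, 6],
    [2, 2, 6, 2, 2, 6, 2, 2, 6],
    [8, 8, 8, 8, 8],
    [1, 9, 0, 8],
    [3, 7, 2, 9, 3, 0, 0, 2, 8],
    [4, 3, 7, 2, 5, 9, 3, 3, 0, 0, 2, 2, 8],
    [5, 3, 3, 0, 2, 7, 3, 1, 2, 2, 4, 9, 3, 6, 2, 8],
    [4, 3, 3, 0, 2, 7, 2, 5, 3, 0, 2, 1, 9, 5, 3, 6, 2, 4, 8],
    [4, 3, 3, 1, 2, 7, 2, 5, 3, 1, 2, 9, 9, 3, 0, 2, 4, 3, 6, 3, 0, 2, 2, 5, 7, 4, 3, 1, 2, 8, 3, 0, 2, 5, 6],
    [3, 3, 1, 2, 2, 4, 3, 3, 0, 2, 7, 2, 9, 9, 9, 3, 0, 2, 8],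
    [3, 3, 0, 2, 2, 8, 3, 1, 2, 1, 3, 5, 9, 1, 6, 2, 4, 8, 8, 3, 8, 4, 2]]
  subs := [[0],
    [3, 0, 2],
    [3, 3, 0, 2, 2],
    [4],
    [6],
    [3, 6, 2],
    [8]]

/-- Traced words with their chains. -/
noncomputable def closers : List (List ℕ × ℕ) :=
  []

end CfsgLib.Recog.HsTwoLocal.Certs.GMain
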